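import Groth.Agent.K0PnLib.Span
import Groth.Agent.CMRegLib.BoundFree
import Groth.Agent.CurveLib.GlobalFun
import Groth.Agent.REqLib.P1Irred

/-!
# Euler characteristics detect the classes of twists
-/

set_option autoImplicit false
set_option linter.style.haveILetI false
set_option backward.isDefEq.respectTransparency false
universe u

open CategoryTheory CategoryTheory.Limits AlgebraicGeometry

noncomputable section

namespace Groth.Agent.K0PnLib

variable {k : Type u} [Field k] {n : ℕ}

local notation "PS" => CohB1.ProjSpace n k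
local notation "O(" d ")" => Twist.twistProjSpace n k d
local notation "cl" => KZero.clSub (P k n)

variable (k n) in
/-- The Euler characteristic of a twist, on classes. -/
def phi (t : ℤ) : KZero.K0sub (P k n) →+ ℤ :=
  QuotientAddGroup.lift _
    (FreeAbelianGroup.lift fun M : Subtype (P k n) =>
      Curv2.euler k (CohB1.ProjSpace n k) (CohB1.tensorMod M.1 (Twist.twistProjSpace n k t)))
    ((AddSubgroup.closure_le _).2 (by
      rintro x ⟨S, h₁, h₂, h₃, hS, rfl⟩
      haveI : IsProper (PS ↘ Spec (CommRingCat.of k)) := CompleteCurve.isProper_toSpec n k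
      have h : Curv2.euler k PS (CohB1.tensorMod S.X₂ (O(t))) =
          Curv2.euler k PS (CohB1.tensorMod S.X₁ (O(t))) + Curv2.euler k PS (CohB1.tensorMod S.X₃ (O(t))) :=
        CurveLib.euler_shortExact (CMRegLib.shortExact_twSeq hS t) (CMRegLib.isCoh_twistBy h₁ t)
          (CMRegLib.isCoh_twistBy h₂ t) (CMRegLib.isCoh_twistBy h₃ t)
      simp only [SetLike.mem_coe, AddMonoidHom.mem_ker, map_sub, FreeAbelianGroup.lift_apply_of, h]
      ring))

theorem phi_cl (t : ℤ) {M : (PS).Modules} (hM : P k n M) :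
    phi k n t (cl M) = Curv2.euler k PS (CohB1.tensorMod M (O(t))) := by
  rw [cl_of hM]
  exact FreeAbelianGroup.lift_apply_of _ _

variable (k n) in
/-- `O(a) ⊗ O(b) = O(a + b)`. -/
def twistAddIso {a b c : ℤ} (e : a + b = c) : CohB1.tensorMod (O(a)) (O(b)) ≅ O(c) :=
  AmpleLib.tIso (CurveLib.tmodUnit (O(a))).symm (Iso.refl _) ≪≫
    asIso (CMRegLib.mulMap (Coh.structureModule (CohB1.ProjSpace n k)) e) ≪≫ CurveLib.tmodUnit (O(c))

theorem euler_O [IsAlgClosed k] (d : ℤ) (hd : n = 0 → d = 0) :
    Curv2.euler k PS (O(d)) = Ring.choose (d + n) n := by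
  rcases Nat.eq_zero_or_pos n with rfl | hn
  · obtain rfl := hd rfl
    haveI : IsProper (CohB1.ProjSpace 0 k ↘ Spec (CommRingCat.of k)) := CompleteCurve.isProper_toSpec 0 k
    haveI := REqLib.isIntegral_projSpace 0 k
    let u : Twist.twistProjSpace 0 k 0 ≅ Coh.structureModule (CohB1.ProjSpace 0 k) :=
      (asIso (ProjCoh.unitToTwist (CohB1.polyGrading 0 k))).symm
    rw [CurveLib.euler_iso (K := k) u, CurveLib.euler_eq_sum (K := k) _ 1 fun q hq =>
      @ProjCoh.subsingleton_of_iso _ _ _ (CurveLib.tmodUnit _ ≪≫ u) q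
        (CMRegLib.vanish_high (DevLib.isCoh_structureModule _) 0 (by omega))]
    simp [CurveLib.finrank_H0_structure]
  · exact CMRegLib.euler_twist hn d

theorem injective_comb [IsAlgClosed k] :
    Function.Injective (fun a : Fin (n + 1) → ℤ => ∑ i : Fin (n + 1), a i • cl (O(-((i : ℕ) : ℤ)))) := by
  haveI : IsProper (PS ↘ Spec (CommRingCat.of k)) := CompleteCurve.isProper_toSpec n k
  intro a b hab
  simp only at hab
  rw [← sub_eq_zero, ← Finset.sum_sub_distrib] at hab
  simp only [← sub_smul] at hab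
  suffices h : ∀ j : ℕ, ∀ hj : j < n + 1, a ⟨j, hj⟩ - b ⟨j, hj⟩ = 0 from funext fun j => sub_eq_zero.1 (h j j.2)
  intro j
  induction j using Nat.strong_induction_on with
  | _ j ih =>
    intro hj
    have h := congrArg (phi k n (j : ℤ)) hab
    rw [map_sum, map_zero] at h
    rw [Finset.sum_eq_single ⟨j, hj⟩] at h
    · rw [map_zsmul, phi_cl _ (twistP _), smul_eq_mul,
        CurveLib.euler_iso (twistAddIso k n (a := -((j : ℕ) : ℤ)) (b := (j : ℤ)) (c := 0) (by ring)),
        euler_O 0 fun _ => rfl, zero_add, Ring.choose_natCast, Nat.choose_self, Nat.cast_one, mul_one] at h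
      exact h
    · rintro ⟨i, hi⟩ _ hij
      have hne : i ≠ j := fun e => hij (Fin.ext e)
      rcases lt_or_gt_of_ne hne with hlt | hgt
      · rw [ih i hlt hi, zero_smul, map_zero]
      · rw [map_zsmul, phi_cl _ (twistP _),
          CurveLib.euler_iso (twistAddIso k n (a := -((i : ℕ) : ℤ)) (b := (j : ℤ)) (c := -((i : ℤ) - j)) (by ring)),
          euler_O _ (fun h0 => by omega),
          show -((i : ℤ) - j) + n = ((n - (i - j) : ℕ) : ℤ) by omega, Ring.choose_natCast,
          Nat.choose_eq_zero_of_lt (by omega), Nat.cast_zero, smul_zero]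
    · simp

end Groth.Agent.K0PnLib
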