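import Groth.Agent.GrSyzLib.Resolve
import Groth.Agent.CMRegLib.Koszul
import Groth.Agent.CMRegLib.Reg
import Groth.Agent.AmpleEmb.TwistOne
import Groth.Prelude.Def_KZero

/-!
# Classes of twists span `K₀` of projective space
-/

set_option autoImplicit false
set_option linter.unusedSectionVars false
set_option linter.style.haveILetI false
set_option backward.isDefEq.respectTransparency false
universe u

open CategoryTheory CategoryTheory.Limits AlgebraicGeometry

noncomputable section

namespace Groth.Agent.K0PnLib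

variable {k : Type u} [Field k] {n : ℕ}

local notation "PS" => CohB1.ProjSpace n k
local notation "O(" d ")" => Twist.twistProjSpace n k d

variable (k n) in
/-- The coherent modules. -/
abbrev P : ObjectProperty (CohB1.ProjSpace n k).Modules := fun M => Coh.IsCoh M

local notation "cl" => KZero.clSub (P k n)

theorem isoP {M N : (PS).Modules} (e : M ≅ N) (h : P k n M) : P k n N := ProjCoh.isCoh_of_iso e h

theorem kerP {M N : (PS).Modules} (f : M ⟶ N) (hM : P k n M) (hN : P k n N) : P k n (kernel f) :=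
  haveI := CMRegLib.isNoetherian_projSpace (k := k) (n := n)
  (QCohLib.isCoh_kernel_cokernel f hM hN).1

theorem zeroP {Z : (PS).Modules} (h : IsZero Z) : P k n Z :=
  isoP ((isZero_kernel_of_mono (𝟙 (Coh.structureModule PS))).iso h)
    (kerP (𝟙 _) (DevLib.isCoh_structureModule PS) (DevLib.isCoh_structureModule PS))

theorem twistP (d : ℤ) : P k n (O(d)) :=
  haveI := CMRegLib.isNoetherian_projSpace (k := k) (n := n)
  CurveLib.isCoh_of_isInvertible (CMRegLib.isInvertible_O d)

theorem biP {M N : (PS).Modules} (hM : P k n M) (hN : P k n N) : P k n (M ⊞ N) :=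
  haveI := CMRegLib.isNoetherian_projSpace (k := k) (n := n)
  DevLib.isCoh_biprod hM hN

theorem cl_of {X : (PS).Modules} (h : P k n X) :
    cl X = QuotientAddGroup.mk (FreeAbelianGroup.of (⟨X, h⟩ : Subtype (P k n))) := dif_pos h

theorem cl_add {S : ShortComplex (PS).Modules} (hS : S.ShortExact) (h₁ : P k n S.X₁) (h₂ : P k n S.X₂)
    (h₃ : P k n S.X₃) : cl S.X₂ = cl S.X₁ + cl S.X₃ := by
  rw [cl_of h₁, cl_of h₂, cl_of h₃, ← sub_eq_zero, ← sub_sub]
  exact (QuotientAddGroup.eq_zero_iff _).2 (AddSubgroup.subset_closure ⟨S, h₁, h₂, h₃, hS, rfl⟩)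

theorem cl_zero {Z : (PS).Modules} (h : IsZero Z) : cl Z = 0 := by
  have hS : (ShortComplex.mk (0 : Z ⟶ Z) (0 : Z ⟶ Z) zero_comp).ShortExact :=
    { exact := ShortComplex.exact_of_isZero_X₂ _ h
      mono_f := ⟨fun _ _ _ => h.eq_of_tgt _ _⟩
      epi_g := ⟨fun _ _ _ => h.eq_of_src _ _⟩ }
  simpa using cl_add hS (zeroP h) (zeroP h) (zeroP h)

theorem cl_biprod {M N : (PS).Modules} (hM : P k n M) (hN : P k n N) : cl (M ⊞ N) = cl M + cl N :=
  cl_add (S := ShortComplex.mk (biprod.inl : M ⟶ M ⊞ N) biprod.snd biprod.inl_snd)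
    (ShortComplex.Splitting.ofHasBinaryBiproduct M N).shortExact hM (biP hM hN) hN

theorem cl_iso {M N : (PS).Modules} (e : M ≅ N) (hM : P k n M) : cl M = cl N := by
  have hS : (ShortComplex.mk (kernel.ι e.hom) e.hom (kernel.condition _)).ShortExact :=
    { exact := ShortComplex.exact_of_f_is_kernel _ (kernelIsKernel _) }
  have h := cl_add hS (kerP e.hom hM (isoP e hM)) hM (isoP e hM)
  rwa [cl_zero (isZero_kernel_of_mono e.hom), zero_add] at h

theorem cl_step {X Y Z : (PS).Modules} (f : X ⟶ Y) (g : Y ⟶ Z) (w : f ≫ g = 0)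
    (hex : (ShortComplex.mk f g w).Exact) (hX : P k n X) (hY : P k n Y) (hZ : P k n Z) :
    cl X = cl (kernel f) + cl (kernel g) := by
  haveI : Epi (kernel.lift g f w) := (ShortComplex.exact_iff_epi_kernel_lift _).1 hex
  have hS := CMRegLib.shortExact_ker (kernel.lift g f w)
  have e : kernel (kernel.lift g f w) ≅ kernel f :=
    (kernelCompMono _ (kernel.ι g)).symm ≪≫ kernelIsoOfEq (kernel.lift_ι g f w)
  have h := cl_add hS (kerP _ hX (kerP g hY hZ)) hX (kerP g hY hZ)
  rwa [cl_iso e (kerP _ hX (kerP g hY hZ))] at h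

section Koszul

variable (k n) in
/-- The family of twists with multiplication by the coordinates. -/
def T : ProjCoh.MulData (CohB1.ProjSpace n k) (Fin (n + 1)) :=
  ProjCoh.twistMulData (CohB1.polyGrading n k) (AmpleEmb.coordForm n k) (AmpleEmb.iSup_stdOpen n k)

/-- The Euler characteristic of a stage. -/
def cK (l : List (Fin (n + 1))) (d : ℤ) : KZero.K0sub (P k n) :=
  ∑ i ∈ Finset.range (l.length + 1), (-1 : ℤ) ^ i • cl (((CMRegLib.stage (T k n) l).K d).X (-(i : ℤ)))

theorem termP (l : List (Fin (n + 1))) (d j : ℤ) : P k n (((CMRegLib.stage (T k n) l).K d).X j) :=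
  (CMRegLib.stage (T k n) l).terms (fun M => P k n M) (fun _ h => zeroP h) (fun _ _ h h' => biP h h')
    (fun e h => isoP e h) d j (twistP (d + j))

theorem isZero_low : ∀ (l : List (Fin (n + 1))) (d j : ℤ), j < -(l.length : ℤ) →
    IsZero (((CMRegLib.stage (T k n) l).K d).X j)
  | [], d, j, hj => HomologicalComplex.isZero_single_obj_X _ _ _ _ (by simp at hj; omega)
  | a :: l, d, j, hj => IsZero.of_iso (biprod_isZero_iff _ _ |>.2
      ⟨isZero_low l _ _ (by simp at hj; omega), isZero_low l _ _ (by simp at hj; omega)⟩)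
      (CMRegLib.coneXIso _ j)

theorem cK_nil (d : ℤ) : cK (k := k) [] d = cl (O(d)) := by
  simp only [cK, List.length_nil, zero_add, Finset.sum_range_one, pow_zero, one_smul, Nat.cast_zero, neg_zero]
  exact cl_iso (HomologicalComplex.singleObjXSelf (ComplexShape.up ℤ) 0 _) (termP [] d 0)

theorem cK_cons (a : Fin (n + 1)) (l : List (Fin (n + 1))) (d : ℤ) :
    cK (k := k) (a :: l) d = cK l d - cK l (d - 1) := by
  have hX : ∀ j : ℤ, cl (((CMRegLib.stage (T k n) (a :: l)).K d).X j) =
      cl (((CMRegLib.stage (T k n) l).K (d - 1)).X (j + 1)) + cl (((CMRegLib.stage (T k n) l).K d).X j) :=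
    fun j => (cl_iso (CMRegLib.coneXIso _ j) (termP (a :: l) d j)).trans (cl_biprod (termP _ _ _) (termP _ _ _))
  simp only [cK, List.length_cons, hX, smul_add, Finset.sum_add_distrib]
  rw [Finset.sum_range_succ' (fun i : ℕ => (-1 : ℤ) ^ i • cl (((CMRegLib.stage (T k n) l).K (d - 1)).X (-(i : ℤ) + 1))),
    cl_zero ((CMRegLib.stage (T k n) l).pos (d - 1) _ (by simp)), smul_zero, add_zero,
    Finset.sum_range_succ (fun i : ℕ => (-1 : ℤ) ^ i • cl (((CMRegLib.stage (T k n) l).K d).X (-(i : ℤ)))) (l.length + 1),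
    cl_zero (isZero_low l d _ (by push_cast; omega)), smul_zero, add_zero]
  have key : ∑ i ∈ Finset.range (l.length + 1),
        (-1 : ℤ) ^ (i + 1) • cl (((CMRegLib.stage (T k n) l).K (d - 1)).X (-((i + 1 : ℕ) : ℤ) + 1)) =
      -∑ i ∈ Finset.range (l.length + 1), (-1 : ℤ) ^ i • cl (((CMRegLib.stage (T k n) l).K (d - 1)).X (-(i : ℤ))) := by
    rw [← Finset.sum_neg_distrib]
    refine Finset.sum_congr rfl fun i _ => ?_
    rw [show (-((i + 1 : ℕ) : ℤ) + 1) = -(i : ℤ) by push_cast; ring, pow_succ, mul_neg_one, neg_smul]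
  rw [key, neg_add_eq_sub]

theorem cK_eq_zero (l : List (Fin (n + 1))) (hl : ∀ i, i ∈ l) (d : ℤ) : cK (k := k) l d = 0 := by
  let K := (CMRegLib.stage (T k n) l).K d
  have hK : K.Acyclic := CMRegLib.acyclic_stage (T k n) l hl d
  have hZ : ∀ j, P k n (K.cycles j) := fun j =>
    isoP ((K.cyclesIsKernel j (j + 1) (by simp)).conePointUniqueUpToIso (kernelIsKernel (K.d j (j + 1)))).symm
      (kerP _ (termP _ _ _) (termP _ _ _))
  have hsplit : ∀ j : ℤ, cl (K.X j) = cl (K.cycles j) + cl (K.cycles (j + 1)) := fun j =>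
    cl_add (CMRegLib.shortExact_cycles K hK j (j + 1) rfl) (hZ _) (termP _ _ _) (hZ _)
  have hsum : ∀ m : ℕ, (∑ i ∈ Finset.range m, (-1 : ℤ) ^ i • cl (K.X (-(i : ℤ)))) =
      cl (K.cycles 1) + (-1 : ℤ) ^ (m + 1) • cl (K.cycles (1 - (m : ℤ))) := by
    intro m
    induction m with
    | zero => simp
    | succ m ih =>
      rw [Finset.sum_range_succ, ih, hsplit, show -(m : ℤ) + 1 = 1 - (m : ℤ) by ring,
        show 1 - ((m + 1 : ℕ) : ℤ) = -(m : ℤ) by push_cast; ring]
      module
  have h1 : IsZero (K.cycles 1) := IsZero.of_mono (K.iCycles 1) ((CMRegLib.stage (T k n) l).pos d 1 zero_lt_one)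
  have h2 : IsZero (K.cycles (1 - ((l.length + 1 : ℕ) : ℤ))) := by
    have hs := CMRegLib.shortExact_cycles K hK (1 - ((l.length + 1 : ℕ) : ℤ) - 1) _ (sub_add_cancel _ _)
    haveI := hs.epi_g
    exact IsZero.of_epi (K.toCycles (1 - ((l.length + 1 : ℕ) : ℤ) - 1) _) (isZero_low l d _ (by push_cast; omega))
  show ∑ i ∈ _, _ • cl (K.X _) = 0
  rw [hsum, cl_zero h1, cl_zero h2, smul_zero, add_zero]

end Koszul

/-- Backward difference. -/
def nabla {G : Type*} [AddCommGroup G] (f : ℤ → G) : ℤ → G := fun d => f d - f (d - 1)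

theorem mem_of_nabla {G : Type*} [AddCommGroup G] (H : AddSubgroup G) : ∀ (m : ℕ) (f : ℤ → G) (a : ℤ),
    (∀ d, nabla^[m] f d = 0) → (∀ i : ℕ, i < m → f (a - i) ∈ H) → ∀ d, f d ∈ H := by
  intro m
  induction m with
  | zero => intro f a h _ d; rw [show f d = 0 from h d]; exact zero_mem _
  | succ m ih =>
    intro f a h hin d
    have hd : ∀ d, f d - f (d - 1) ∈ H := ih (nabla f) a (fun d => by simpa using h d) fun i hi => by
      have h1 := hin (i + 1) (by omega)
      rw [show a - ((i + 1 : ℕ) : ℤ) = a - i - 1 by push_cast; ring] at h1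
      exact sub_mem (hin i (by omega)) h1
    induction d using Int.inductionOn' with
    | b => exact a
    | zero => simpa using hin 0 (Nat.succ_pos m)
    | succ i _ hi =>
      have := add_mem (hd (i + 1)) hi
      rwa [add_sub_cancel_right, sub_add_cancel] at this
    | pred i _ hi =>
      have := sub_mem hi (hd i)
      rwa [sub_sub_cancel] at this

theorem cK_eq_nabla : ∀ (l : List (Fin (n + 1))) (d : ℤ),
    cK (k := k) l d = nabla^[l.length] (fun d => cl (O(d))) d
  | [], d => cK_nil d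
  | a :: l, d => by
    rw [cK_cons, cK_eq_nabla l, cK_eq_nabla l, List.length_cons, Function.iterate_succ_apply']
    rfl

variable (k n) in
/-- The subgroup spanned by `O, O(-1), …, O(-n)`. -/
def genSub : AddSubgroup (KZero.K0sub (P k n)) :=
  AddSubgroup.closure (Set.range fun i : Fin (n + 1) =>
    KZero.clSub (P k n) (Twist.twistProjSpace n k (-((i : ℕ) : ℤ))))

theorem twist_mem (d : ℤ) : cl (O(d)) ∈ genSub k n :=
  mem_of_nabla (genSub k n) (n + 1) (fun d => cl (O(d))) 0
    (fun d => by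
      have h := cK_eq_nabla (k := k) (List.finRange (n + 1)) d
      rwa [cK_eq_zero _ (fun i => List.mem_finRange i), List.length_finRange, eq_comm] at h)
    (fun i hi => by
      rw [zero_sub]
      exact AddSubgroup.subset_closure ⟨⟨i, hi⟩, rfl⟩) d

theorem sigma_mem {m : ℕ} (e : Fin m → ℤ) :
    P k n (∐ fun j => O(e j)) ∧ cl (∐ fun j => O(e j)) ∈ genSub k n :=
  haveI : HasFiniteBiproducts (PS).Modules := HasFiniteBiproducts.of_hasFiniteProducts
  CMRegLib.sigma_induction (fun M => P k n M ∧ cl M ∈ genSub k n)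
    (fun Z hZ => ⟨zeroP hZ, by rw [cl_zero hZ]; exact zero_mem _⟩)
    (fun A B hA hB => ⟨biP hA.1 hB.1, by rw [cl_biprod hA.1 hB.1]; exact add_mem hA.2 hB.2⟩)
    (fun e h => ⟨isoP e h.1, by rw [← cl_iso e h.1]; exact h.2⟩) _ fun j => ⟨twistP _, twist_mem _⟩

theorem mem_genSub {F : (PS).Modules} (hF : Coh.IsCoh F) : cl F ∈ genSub k n := by
  obtain ⟨C, π, w, hzero, hsum, hex, hepi, hex0⟩ := GrSyzLib.exists_resolution F hF
  have hC : ∀ i, P k n (C.X i) ∧ cl (C.X i) ∈ genSub k n := fun i => by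
    obtain ⟨m, e, ⟨φ⟩⟩ := hsum i
    obtain ⟨h1, h2⟩ := sigma_mem (k := k) e
    exact ⟨isoP φ.symm h1, by rw [← cl_iso φ.symm h1]; exact h2⟩
  have hker : ∀ m i, n + 1 ≤ i + m → cl (kernel (C.d (i + 1) i)) ∈ genSub k n := by
    intro m
    induction m with
    | zero =>
      intro i hi
      rw [cl_zero (IsZero.of_mono (kernel.ι _) (hzero (i + 1) (by omega)))]
      exact zero_mem _
    | succ m ih =>
      intro i hi
      have he : (ShortComplex.mk (C.d (i + 2) (i + 1)) (C.d (i + 1) i) (C.d_comp_d _ _ _)).Exact :=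
        (C.exactAt_iff' (i + 2) (i + 1) i (by simp) (by simp)).1
          ((C.exactAt_iff_isZero_homology (i + 1)).2 (hex (i + 1) (by omega)))
      have h := cl_step _ _ _ he (hC _).1 (hC _).1 (hC i).1
      have := sub_mem (hC (i + 2)).2 (ih (i + 1) (by omega))
      rwa [h, add_sub_cancel_left] at this
  have h1 := cl_step _ _ w hex0 (hC 1).1 (hC 0).1 hF
  have hkπ : cl (kernel π) ∈ genSub k n := by
    have := sub_mem (hC 1).2 (hker (n + 1) 0 (by omega))
    rwa [h1, add_sub_cancel_left] at this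
  haveI := hepi
  have h2 := cl_add (CMRegLib.shortExact_ker π) (kerP π (hC 0).1 hF) (hC 0).1 hF
  have := sub_mem (hC 0).2 hkπ
  rwa [h2, add_sub_cancel_left] at this

end Groth.Agent.K0PnLib
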